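import Groth.Agent.L04.ProjLC.GlobalSections
import Groth.Agent.L04.Koszul.Compare
import Groth.Agent.L18.GrMod.AlphaEventually
import Groth.Prelude.Def_Wider

/-!
# The cokernel of `M → ⊕ Γ(M(n)~)` is `H¹_{R₊}(M)`
-/

set_option autoImplicit false
set_option linter.unusedSectionVars false
set_option backward.isDefEq.respectTransparency.types false
universe u

open CategoryTheory AlgebraicGeometry TopologicalSpace Opposite
open Groth.L04.Koszul Groth.L04.Koszul.Cech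

noncomputable section

namespace Groth.L04.ProjLC

variable {A σ : Type u} [CommRing A] [SetLike σ A] [AddSubgroupClass σ A] {𝒜 : ℕ → σ} [GradedRing 𝒜]
variable {M τ : Type u} [AddCommGroup M] [Module A M] [SetLike τ M] [AddSubgroupClass τ M]
  {ℳ : ℕ → τ} [DirectSum.Decomposition ℳ] [SetLike.GradedSMul 𝒜 ℳ]

variable (𝒜 ℳ) in
/-- The images of the homogeneous elements. -/
abbrev alphaImage : AddSubgroup (DirectSum ℤ (fun n => GS 𝒜 ℳ n)) :=
  AddSubgroup.closure (⋃ i : ℕ, Set.range (fun m : ℳ i =>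
    DirectSum.of (fun n : ℤ => GS 𝒜 ℳ n) (i : ℤ) (GrMod.alpha 𝒜 ℳ i m)))

theorem nonempty_coker_equiv [IsNoetherianRing A] :
    Nonempty ((DirectSum ℤ (fun n => GS 𝒜 ℳ n) ⧸ alphaImage 𝒜 ℳ) ≃+
      LocCoh.H (HomogeneousIdeal.irrelevant 𝒜).toIdeal 1 M) := by
  classical
  obtain ⟨S, hS, hsp⟩ := Groth.L18.AlphaEv.exists_gens 𝒜
  let fs : List A := S.toList
  have hmem : ∀ i : ULift.{u} (Fin fs.length), fam fs i ∈ S := fun i =>
    Finset.mem_toList.1 (List.get_mem fs i.down)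
  choose d hd hfd using fun i => hS _ (hmem i)
  have hspan : Ideal.ofList fs = (HomogeneousIdeal.irrelevant 𝒜).toIdeal := by
    rw [← hsp]
    exact congrArg Ideal.span (Set.ext fun a => Finset.mem_toList)
  have hcov : ∀ x : ProjectiveSpectrum 𝒜, ∃ i, fam fs i ∉ x.asHomogeneousIdeal := fun x => by
    by_contra h
    push Not at h
    refine x.not_irrelevant_le ?_
    intro a ha
    refine (Ideal.span_le.2 ?_ : Ideal.ofList fs ≤ x.asHomogeneousIdeal.toIdeal) ((SetLike.ext_iff.1 hspan a).2 ha)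
    intro b hb
    obtain ⟨i, rfl⟩ := List.get_of_mem hb
    exact h ⟨i⟩
  let M' := ModuleCat.of A M
  let Φ : DirectSum ℤ (fun n => GS 𝒜 ℳ n) →+ Z0 (cx (fam fs) M') :=
    (Phi (ℳ := ℳ) hfd hd).codRestrict (Z0 (cx (fam fs) M')) (fun z => d_Phi hfd hd z)
  have hΦ : Function.Bijective Φ :=
    ⟨fun y z h => phi_injective (ℳ := ℳ) hfd hd hcov (congrArg Subtype.val h), fun y => by
      obtain ⟨z, hz⟩ := exists_preimage (ℳ := ℳ) hfd hd hcov y.1 y.2
      exact ⟨z, Subtype.ext hz⟩⟩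
  let R₁ : Submodule A (Z0 (cx (fam fs) M')) :=
    (LinearMap.range (aug (fam fs) M')).comap (Z0 (cx (fam fs) M')).subtype
  have himg : (alphaImage 𝒜 ℳ).map (AddEquiv.ofBijective Φ hΦ).toAddMonoidHom = R₁.toAddSubgroup := by
    refine le_antisymm ((AddSubgroup.map_le_iff_le_comap).2 ((AddSubgroup.closure_le _).2 ?_)) ?_
    · rintro _ ⟨_, ⟨i, rfl⟩, m, rfl⟩
      exact ⟨(m : M), (Phi_of_alpha hfd hd i m).symm⟩
    · rintro y ⟨m, hm⟩
      refine ⟨∑ i ∈ (DirectSum.decompose ℳ m).support, DirectSum.of (fun n : ℤ => GS 𝒜 ℳ n) (i : ℤ)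
        (GrMod.alpha 𝒜 ℳ i (DirectSum.decompose ℳ m i)),
        sum_mem fun i _ => AddSubgroup.subset_closure (Set.mem_iUnion.2 ⟨i, _, rfl⟩), Subtype.ext ?_⟩
      show Phi (ℳ := ℳ) hfd hd _ = (y : (cx (fam fs) M').X 0)
      rw [map_sum, Finset.sum_congr rfl fun i _ => Phi_of_alpha hfd hd i _, ← map_sum,
        DirectSum.sum_support_decompose]
      exact hm
  obtain ⟨q⟩ := nonempty_Z0_quotient_equiv fs M'
  obtain ⟨e₁⟩ := nonempty_HLim_equiv_RT fs 1 M' ((1 : ℕ) - fs.length : ℤ) (sub_add_cancel _ _)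
  obtain ⟨e₂⟩ := nonempty_H_equiv_HLim fs 1 M'
  have key : Nonempty ((DirectSum ℤ (fun n => GS 𝒜 ℳ n) ⧸ alphaImage 𝒜 ℳ) ≃+
      LocCoh.H (Ideal.ofList fs) 1 M) :=
    ⟨(QuotientAddGroup.congr _ _ (AddEquiv.ofBijective Φ hΦ) himg).trans
      ((q.trans (e₁.symm.trans e₂.symm)).toAddEquiv)⟩
  rwa [hspan] at key

end Groth.L04.ProjLC
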