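import Groth.Agent.L18.GrTildeTwist
import Groth.Agent.L18.GrTildeFT
import Groth.Agent.L18.GrMod.AlphaEventually
import Groth.Agent.L16.Existence.AmpleVanish
import Groth.Agent.L16.ProjSpace.TwistMul
import Groth.Agent.L16.ProjSpace.Ample
import Groth.Agent.L16.Exist.FormalSect
import Groth.Agent.L06.RelProjFlat.Main
import Groth.Prelude.Def_ega3
import Mathlib.RingTheory.Length

/-!
# Euler characteristic of `M(n)~` for large `n`
-/

set_option autoImplicit false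
set_option linter.unusedSectionVars false
set_option linter.style.haveILetI false
set_option backward.isDefEq.respectTransparency false
set_option backward.isDefEq.respectTransparency.types false
universe u

open CategoryTheory AlgebraicGeometry TopologicalSpace Opposite

noncomputable section

namespace Groth.L04.ProjLC

open Groth.L16
open Groth.L00.Tensor (tensorComm tensorIso)

variable {A S : Type u} [CommRing A] [CommRing S] [Algebra A S] {𝒜 : ℕ → Submodule A S} [GradedAlgebra 𝒜]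
  {M : Type u} [AddCommGroup M] [Module A M] [Module S M] [IsScalarTower A S M]
  {ℳ : ℕ → Submodule A M} [DirectSum.Decomposition ℳ] [SetLike.GradedSMul 𝒜 ℳ]

theorem scal_val (a : A) (y : ProjectiveSpectrum 𝒜) :
    ((show GrTwist.O (𝒜 := 𝒜) (op ⊤) from AffineBC.scal A (Proj 𝒜) ⊤ a).1 ⟨y, trivial⟩).val =
      algebraMap S (GrTwist.Loc 𝒜 y) (algebraMap A S a) := by
  refine Eq.trans ?_ (Groth.L06.RelProjFlat.toSpecZero_val 𝒜 (algebraMap A (𝒜 0) a) y)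
  have h : AffineBC.scal A (Proj 𝒜) ⊤ a = (Proj.toSpecZero 𝒜).appTop
      ((Scheme.ΓSpecIso (CommRingCat.of (𝒜 0))).inv (algebraMap A (𝒜 0) a)) := by
    rw [AffineBC.scal, Subsingleton.elim (homOfLE (le_top (a := (⊤ : (Proj 𝒜).Opens)))) (𝟙 _), op_id,
      CategoryTheory.Functor.map_id]
    change (Proj.toSpecZero 𝒜 ≫ Spec.map (CommRingCat.ofHom (algebraMap A (𝒜 0)))).appTop
      ((Scheme.ΓSpecIso (CommRingCat.of A)).inv a) = _
    rw [Scheme.Hom.comp_appTop]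
    show (Proj.toSpecZero 𝒜).appTop
      (((Scheme.ΓSpecIso (CommRingCat.of A)).inv ≫ (Spec.map (CommRingCat.ofHom (algebraMap A (𝒜 0)))).appTop) a) = _
    rw [← Scheme.ΓSpecIso_inv_naturality]
    rfl
  rw [h]

theorem globalOf_smul (n : ℕ) (a : A) (m : ℳ n) :
    ((GrTilde.globalOf 𝒜 ℳ (a • m)) : Γ(GrTilde.tilde 𝒜 ℳ (n : ℤ), ⊤)) =
      AffineBC.scal A (Proj 𝒜) ⊤ a • ((GrTilde.globalOf 𝒜 ℳ m) : Γ(GrTilde.tilde 𝒜 ℳ (n : ℤ), ⊤)) := by
  refine Groth.L18.GrT.sect_ext (ℳ := ℳ) fun x => ?_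
  refine Eq.symm ((GrTilde.coe_smul_val (n : ℤ) x.1 _ _).trans ?_)
  erw [scal_val (𝒜 := 𝒜) a x.1]
  show _ = LocalizedModule.mk ((a • m : ℳ n) : M) _
  rw [Submodule.coe_smul, ← algebraMap_smul S a (m : M), ← LocalizedModule.smul'_mk, algebraMap_smul]
  rfl

/-- The comparison in degree zero, linearly. -/
def degZero (n : ℕ) : ℳ n →ₗ[A] Coh.HH (Proj 𝒜) (GrTilde.tilde 𝒜 ℳ (n : ℤ)) 0 where
  toFun m := (HomSh.h0Equiv (GrTilde.tilde 𝒜 ℳ (n : ℤ))).symm (GrTilde.globalOf 𝒜 ℳ m)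
  map_add' m m' := by
    rw [← map_add]
    refine congrArg _ (Groth.L18.GrT.sect_ext (ℳ := ℳ) fun x => ?_)
    show LocalizedModule.mk ((m : M) + m') _ = LocalizedModule.mk (m : M) _ + LocalizedModule.mk (m' : M) _
    rw [LocalizedModule.mk_add_mk, LocalizedModule.mk_eq]
    exact ⟨1, by simp [Submonoid.smul_def]⟩
  map_smul' a m := by
    apply (HomSh.h0Equiv (GrTilde.tilde 𝒜 ℳ (n : ℤ))).injective
    rw [RingHom.id_apply, Exist.h0Equiv_smul, AddEquiv.apply_symm_apply, AddEquiv.apply_symm_apply]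
    exact globalOf_smul n a m

theorem euler_eq_length [IsArtinianRing A] [IsLocalRing A]
    (h0 : ∀ s ∈ 𝒜 0, s ∈ Set.range (algebraMap A S)) (r : ℕ) (g : Fin (r + 1) → S)
    (hg1 : ∀ i, g i ∈ 𝒜 1) (hgen : Algebra.adjoin A (Set.range g) = ⊤) [Module.Finite S M] :
    ∃ N : ℕ, ∀ n : ℕ, N ≤ n →
      ((Finset.range (r + 1)).sum fun j => (-1 : ℤ) ^ j *
          ((Module.length A (Coh.HH (Proj 𝒜) (GrTilde.tilde 𝒜 ℳ (n : ℤ)) j)).toNat : ℤ)) =
        ((Module.length A ↥(ℳ n)).toNat : ℤ) := by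
  classical
  have hcov : ⨆ i, Proj.basicOpen 𝒜 (g i) = ⊤ := by
    refine Proj.iSup_basicOpen_eq_top' 𝒜 g (fun i => ⟨1, hg1 i⟩) (top_le_iff.1 fun x hxt => ?_)
    clear hxt
    have hx : x ∈ Algebra.adjoin A (Set.range g) := hgen.symm ▸ Algebra.mem_top
    induction hx using Algebra.adjoin_induction with
    | mem y hy => exact Algebra.subset_adjoin hy
    | algebraMap a => exact Subalgebra.algebraMap_mem _ (⟨algebraMap A S a, SetLike.algebraMap_mem_graded 𝒜 a⟩ : 𝒜 0)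
    | add y z _ _ hy hz => exact Subalgebra.add_mem _ hy hz
    | mul y z _ _ hy hz => exact Subalgebra.mul_mem _ hy hz
  have hmem : ∀ x : Proj 𝒜, ∃ f : 𝒜 1, x ∈ Proj.basicOpen 𝒜 f.1 := fun x => by
    obtain ⟨i, hi⟩ := TopologicalSpace.Opens.mem_iSup.1 (hcov.ge (TopologicalSpace.Opens.mem_top x))
    exact ⟨⟨g i, hg1 i⟩, hi⟩
  have hample : CohB1.IsAmple (Twist.twist 𝒜 ((1 : ℕ) : ℤ)) :=
    ProjTwist.isAmple_twist 𝒜 one_pos (fun i => (⟨g i, hg1 i⟩ : 𝒜 1)) hcov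
  haveI hft : Algebra.FiniteType A S :=
    ⟨⟨(Set.finite_range g).toFinset, by rw [Set.Finite.coe_toFinset]; exact hgen⟩⟩
  haveI : IsNoetherianRing A := inferInstance
  haveI : IsNoetherianRing S := Algebra.FiniteType.isNoetherianRing A S
  haveI : IsScalarTower A (𝒜 0) S := ⟨fun a b x => smul_mul_assoc a (b : S) x⟩
  haveI : Algebra.FiniteType (𝒜 0) S := Algebra.FiniteType.of_restrictScalars_finiteType A (𝒜 0) S
  haveI : IsClosedImmersion (Spec.map (CommRingCat.ofHom (algebraMap A (𝒜 0)))) :=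
    IsClosedImmersion.spec_of_surjective _ (fun b => by
      obtain ⟨a, ha⟩ := h0 b.1 b.2
      exact ⟨a, Subtype.ext ha⟩)
  haveI hprop : IsProper (Proj 𝒜 ↘ Spec (CommRingCat.of A)) :=
    inferInstanceAs (IsProper (Proj.toSpecZero 𝒜 ≫ Spec.map (CommRingCat.ofHom (algebraMap A (𝒜 0)))))
  have hcoh : Coh.IsCoh (GrTilde.tilde 𝒜 ℳ 0) :=
    ⟨Groth.L18.GrT.isQCoh_tilde 𝒜 ℳ 0, Groth.L18.GrT.isFT_tilde (IsNoetherian.noetherian _)
      ⟨0, IsNoetherian.noetherian _⟩⟩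
  obtain ⟨d₀, hd₀⟩ := Existence.exists_vanishing_of_isAmple (A := A) hample hcoh
  obtain ⟨N, hN⟩ := Groth.L18.AlphaEv.exists_bijective 𝒜 ℳ ⟨0, IsNoetherian.noetherian _⟩
  refine ⟨max d₀ N, fun n hn => ?_⟩
  obtain ⟨eP⟩ := ProjTwist.nonempty_twist_iso_tensorPow 𝒜 hmem n
  obtain ⟨eT⟩ := Groth.L18.GrT.nonempty_iso_twistBy 𝒜 ℳ hmem (n : ℤ)
  have hvan : ∀ j, 0 < j → Subsingleton (Coh.HH (Proj 𝒜) (GrTilde.tilde 𝒜 ℳ (n : ℤ)) j) := fun j hj =>
    ProjSpace.subsingleton_of_iso (eT ≪≫ tensorComm _ _ ≪≫ tensorIso eP (Iso.refl _)) j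
      (hd₀ n ((le_max_left _ _).trans hn) j hj)
  have hb : Function.Bijective (degZero (𝒜 := 𝒜) (ℳ := ℳ) n) :=
    (HomSh.h0Equiv (GrTilde.tilde 𝒜 ℳ (n : ℤ))).symm.bijective.comp (hN n ((le_max_right _ _).trans hn))
  rw [Finset.sum_eq_single 0]
  · rw [← (LinearEquiv.ofBijective _ hb).length_eq, pow_zero, one_mul]
  · intro j _ hj
    haveI := hvan j (Nat.pos_of_ne_zero hj)
    rw [Module.length_eq_zero]
    simp
  · simp

end Groth.L04.ProjLC
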