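import Groth.Agent.L04.ProjLC.Part
import Groth.Agent.L04.Koszul.CechRT

/-!
# Global sections of the `M(n)~` as Čech cocycles of the localisations
-/

set_option autoImplicit false
set_option linter.unusedSectionVars false
set_option backward.isDefEq.respectTransparency.types false
universe u

open CategoryTheory AlgebraicGeometry TopologicalSpace Opposite
open Groth.L04.Koszul.Cech

noncomputable section

namespace Groth.L04.ProjLC

open Groth.L18.GrM (notMem_pow notMem_mul)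

variable {A σ : Type u} [CommRing A] [SetLike σ A] [AddSubgroupClass σ A] {𝒜 : ℕ → σ} [GradedRing 𝒜]
variable {M τ : Type u} [AddCommGroup M] [Module A M] [SetLike τ M] [AddSubgroupClass τ M]
  {ℳ : ℕ → τ} [DirectSum.Decomposition ℳ] [SetLike.GradedSMul 𝒜 ℳ]
  {ι : Type u} (f : ι → A) (d : ι → ℕ)

/-- Global sections of `M(n)~`. -/
abbrev GS (𝒜 : ℕ → σ) [GradedRing 𝒜] (ℳ : ℕ → τ) [SetLike.GradedSMul 𝒜 ℳ] (n : ℤ) : Type u :=
  ((GrMod.tilde 𝒜 ℳ n).val.obj (op ⊤) : Type u)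

/-- A global section as a function. -/
abbrev gfun {n : ℤ} (s : GS 𝒜 ℳ n) : GrMod.sect 𝒜 ℳ n (op ⊤) := s

/-- The value at a point. -/
abbrev at' {n : ℤ} (s : GS 𝒜 ℳ n) (x : ProjectiveSpectrum 𝒜) : GrMod.LocMod 𝒜 (M := M) x :=
  ((gfun s).1 ⟨x, trivial⟩).1

/-- `s` is the fraction `a / f_i ^ K` on `D₊(f_i)`. -/
def Rep {n : ℤ} (s : GS 𝒜 ℳ n) (i : ι) (K : ℕ) (a : M) : Prop :=
  Deg ℳ (((K * d i : ℕ) : ℤ) + n) a ∧ ∀ (x : ProjectiveSpectrum 𝒜) (hx : f i ∉ x.asHomogeneousIdeal),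
    at' s x = LocalizedModule.mk a ⟨f i ^ K, notMem_pow hx K⟩

variable {f d} (hf : ∀ i, f i ∈ 𝒜 (d i)) (hd : ∀ i, 0 < d i)

include hf hd in
theorem exists_rep {n : ℤ} (s : GS 𝒜 ℳ n) (i : ι) : ∃ (K : ℕ) (a : M), Rep f d s i K a := by
  let U : Opens (ProjectiveSpectrum.top 𝒜) := ProjectiveSpectrum.basicOpen 𝒜 (f i)
  obtain ⟨K, m, a, ha, hm, h⟩ := Groth.L18.GrM.exists_eq_mk (hd i) (hf i) (U := U)
    (fun x => ProjectiveSpectrum.mem_basicOpen 𝒜 (f i) x)
    (GrMod.res 𝒜 ℳ n (homOfLE (le_top : U ≤ ⊤)).op (gfun s))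
  exact ⟨K, a, Or.inl ⟨m, ha, hm⟩, fun x hx => h ⟨x, (ProjectiveSpectrum.mem_basicOpen 𝒜 (f i) x).2 hx⟩⟩

include hf in
theorem rep_raise {n : ℤ} {s : GS 𝒜 ℳ n} {i : ι} {K : ℕ} {a : M} (h : Rep f d s i K a) (c : ℕ) :
    Rep f d s i (K + c) (f i ^ c • a) := by
  refine ⟨?_, fun x hx => (h.2 x hx).trans ?_⟩
  · have := deg_smul (ℳ := ℳ) (SetLike.pow_mem_graded c (hf i)) h.1
    rwa [show ((c • d i : ℕ) : ℤ) + (((K * d i : ℕ) : ℤ) + n) = (((K + c) * d i : ℕ) : ℤ) + n by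
      push_cast [smul_eq_mul]; ring] at this
  · rw [LocalizedModule.mk_eq]
    exact ⟨1, by simp only [one_smul, Submonoid.smul_def, smul_smul, pow_add]⟩

include hf hd in
theorem rep_unique {n : ℤ} {s : GS 𝒜 ℳ n} {i : ι} {K K' : ℕ} {a a' : M} (h : Rep f d s i K a)
    (h' : Rep f d s i K' a') :
    f i ^ K' • mkLoc f (ModuleCat.of A M) (one i) a = f i ^ K • mkLoc f (ModuleCat.of A M) (one i) a' := by
  have e1 := (rep_raise hf h K').1
  have e2 := (rep_raise hf h' K).1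
  rw [add_comm K' K] at e2
  obtain ⟨m, hm, hm'⟩ := exists_common e1 e2
  obtain ⟨k, hk⟩ := Groth.L18.GrM.exists_pow_smul_eq_of_forall_mk_eq (ℳ := ℳ) (hd i) (hf i) (a := a) (b := a')
    (s := f i ^ K) (t := f i ^ K') hm hm' (fun x hx => notMem_pow hx K) (fun x hx => notMem_pow hx K')
    fun x hx => (h.2 x hx).symm.trans (h'.2 x hx)
  refine sub_eq_zero.1 (inv_pow_smul_injective f (inv_apply (one i) 0) k ?_)
  show f i ^ k • _ = 0
  rw [smul_sub, ← map_smul, ← map_smul, ← map_smul, ← map_smul, hk, sub_self]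

theorem bijective_pow_smul (i : ι) (K : ℕ) :
    Function.Bijective fun z : loc f (ModuleCat.of A M) (one i) => f i ^ K • z := by
  have h : IsUnit (algebraMap A (Module.End A (loc f (ModuleCat.of A M) (one i))) (f i ^ K)) := by
    rw [map_pow]
    exact IsUnit.pow K (inv_apply (one i) 0)
  exact (Module.End.isUnit_iff _).1 h

include hf hd in
theorem exists_comp {n : ℤ} (s : GS 𝒜 ℳ n) (i : ι) : ∃ z : loc f (ModuleCat.of A M) (one i),
    ∀ K a, Rep f d s i K a → f i ^ K • z = mkLoc f (ModuleCat.of A M) (one i) a := by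
  obtain ⟨K₀, a₀, h₀⟩ := exists_rep hf hd s i
  obtain ⟨z, hz⟩ := (bijective_pow_smul (M := M) i K₀).2 (mkLoc f (ModuleCat.of A M) (one i) a₀)
  refine ⟨z, fun K a h => (bijective_pow_smul (M := M) i K₀).1 ?_⟩
  show f i ^ K₀ • f i ^ K • z = f i ^ K₀ • mkLoc f (ModuleCat.of A M) (one i) a
  rw [smul_comm]
  exact (congrArg (f i ^ K • ·) hz).trans (rep_unique hf hd h₀ h)

/-- The component of a global section in the localisation at `f i`. -/
def comp {n : ℤ} (s : GS 𝒜 ℳ n) (i : ι) : loc f (ModuleCat.of A M) (one i) := (exists_comp hf hd s i).choose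

theorem comp_spec {n : ℤ} {s : GS 𝒜 ℳ n} {i : ι} {K : ℕ} {a : M} (h : Rep f d s i K a) :
    f i ^ K • comp hf hd s i = mkLoc f (ModuleCat.of A M) (one i) a :=
  (exists_comp hf hd s i).choose_spec K a h

include hf in
theorem rep_add {n : ℤ} {s t : GS 𝒜 ℳ n} {i : ι} {K : ℕ} {a b : M} (h : Rep f d s i K a)
    (h' : Rep f d t i K b) : Rep f d (s + t) i K (a + b) := by
  refine ⟨deg_add h.1 h'.1, fun x hx => ?_⟩
  show at' s x + at' t x = _
  rw [h.2 x hx, h'.2 x hx, LocalizedModule.mk_add_mk, LocalizedModule.mk_eq]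
  exact ⟨1, by simp only [one_smul, Submonoid.smul_def, smul_add, smul_smul, Submonoid.coe_mul]⟩

theorem comp_add {n : ℤ} (s t : GS 𝒜 ℳ n) (i : ι) :
    comp hf hd (s + t) i = comp hf hd s i + comp hf hd t i := by
  obtain ⟨K, a, ha⟩ := exists_rep hf hd s i
  obtain ⟨L, b, hb⟩ := exists_rep hf hd t i
  have ha' := rep_raise hf ha L
  have hb' := rep_raise hf hb K
  rw [add_comm L K] at hb'
  refine (bijective_pow_smul (M := M) i (K + L)).1 ?_
  show f i ^ (K + L) • _ = f i ^ (K + L) • _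
  rw [comp_spec hf hd (rep_add hf ha' hb'), smul_add, comp_spec hf hd ha', comp_spec hf hd hb', map_add]

/-- The cochain of a global section. -/
def phi (n : ℤ) : GS 𝒜 ℳ n →+ (cx f (ModuleCat.of A M)).X 0 :=
  AddMonoidHom.mk' (fun s => mkC f fun a => res (a := one (a 0)) (b := a) (fun _ => inv_apply a 0)
    (comp hf hd s (a 0))) fun s t => ext_val f fun a => by
      rw [map_add, Pi.add_apply, val_mkC, val_mkC, val_mkC]
      show res _ (comp hf hd (s + t) (a 0)) = _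
      rw [comp_add, map_add]

theorem val_phi {n : ℤ} (s : GS 𝒜 ℳ n) (i : ι) :
    val f (phi hf hd n s) (one i) = comp hf hd s i :=
  res_self (a := one i) (fun _ => inv_apply (one i) 0) _

theorem ext_one {x y : (cx f (ModuleCat.of A M)).X 0} (h : ∀ i, val f x (one i) = val f y (one i)) : x = y :=
  ext_val f fun a => by rw [eq_one a]; exact h _

/-- The cochain of a family of global sections. -/
def Phi : DirectSum ℤ (fun n => GS 𝒜 ℳ n) →+ (cx f (ModuleCat.of A M)).X 0 :=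
  DirectSum.toAddMonoid (phi hf hd)

theorem val_Phi_of {n : ℤ} (s : GS 𝒜 ℳ n) (i : ι) :
    val f (Phi hf hd (DirectSum.of (fun n => GS 𝒜 ℳ n) n s)) (one i) = comp hf hd s i := by
  rw [Phi, DirectSum.toAddMonoid_of, val_phi]

theorem d_phi {n : ℤ} (s : GS 𝒜 ℳ n) : (cx f (ModuleCat.of A M)).d 0 1 (phi hf hd n s) = 0 := by
  refine ext_val f fun a => ?_
  rw [val_d_zero, map_zero, Pi.zero_apply, val_phi hf hd, val_phi hf hd]
  obtain ⟨K, b, hb⟩ := exists_rep hf hd s (a 0)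
  obtain ⟨L, c, hc⟩ := exists_rep hf hd s (a 1)
  have e1 : f (a 1) ^ L • b ∈ _ ∧ f (a 0) ^ K • c ∈ _ := (exists_common
    (deg_smul (SetLike.pow_mem_graded L (hf (a 1))) hb.1)
    (by
      have h := deg_smul (ℳ := ℳ) (SetLike.pow_mem_graded K (hf (a 0))) hc.1
      rwa [show ((K • d (a 0) : ℕ) : ℤ) + (((L * d (a 1) : ℕ) : ℤ) + n) =
        ((L • d (a 1) : ℕ) : ℤ) + (((K * d (a 0) : ℕ) : ℤ) + n) by push_cast [smul_eq_mul]; ring] at h)).choose_spec
  have hne : ∀ x : ProjectiveSpectrum 𝒜, f (a 0) * f (a 1) ∉ x.asHomogeneousIdeal →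
      f (a 0) ∉ x.asHomogeneousIdeal ∧ f (a 1) ∉ x.asHomogeneousIdeal := fun x hx =>
    ⟨fun h => hx (x.asHomogeneousIdeal.toIdeal.mul_mem_right _ h),
      fun h => hx (x.asHomogeneousIdeal.toIdeal.mul_mem_left _ h)⟩
  obtain ⟨k, hk⟩ := Groth.L18.GrM.exists_pow_smul_eq_of_forall_mk_eq (ℳ := ℳ)
    (Nat.add_pos_left (hd (a 0)) _) (SetLike.mul_mem_graded (hf (a 0)) (hf (a 1))) (a := b) (b := c)
    (s := f (a 0) ^ K) (t := f (a 1) ^ L) e1.1 e1.2
    (fun x hx => notMem_pow (hne x hx).1 K) (fun x hx => notMem_pow (hne x hx).2 L)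
    fun x hx => (hb.2 x (hne x hx).1).symm.trans (hc.2 x (hne x hx).2)
  have h1 : ∀ h : Refines f (ModuleCat.of A M) (one (a 1)) a,
      f (a 1) ^ L • res h (comp hf hd s (a 1)) = mkLoc f (ModuleCat.of A M) a c := fun h => by
    rw [← map_smul, comp_spec hf hd hc, res_mk]
  have h0 : ∀ h : Refines f (ModuleCat.of A M) (one (a 0)) a,
      f (a 0) ^ K • res h (comp hf hd s (a 0)) = mkLoc f (ModuleCat.of A M) a b := fun h => by
    rw [← map_smul, comp_spec hf hd hb, res_mk]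
  refine inv_pow_smul_injective f (inv_apply a 0) K ?_
  refine inv_pow_smul_injective f (inv_apply a 1) L ?_
  refine inv_pow_smul_injective f (a := a) (s := f (a 0) * f (a 1))
    (inv_of_dvd a (by rw [cp_pair])) k ?_
  show (f (a 0) * f (a 1)) ^ k • f (a 1) ^ L • f (a 0) ^ K • _ = 0
  rw [smul_sub (f (a 0) ^ K), h0, smul_sub, smul_comm (f (a 1) ^ L) (f (a 0) ^ K), h1,
    ← map_smul, ← map_smul, ← map_sub, ← map_smul, smul_sub, hk, sub_self, map_zero]

theorem d_Phi (z : DirectSum ℤ (fun n => GS 𝒜 ℳ n)) :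
    (cx f (ModuleCat.of A M)).d 0 1 (Phi hf hd z) = 0 := by
  induction z using DirectSum.induction_on with
  | zero => rw [map_zero]; exact map_zero _
  | of n s => rw [Phi, DirectSum.toAddMonoid_of]; exact d_phi hf hd s
  | add y z hy hz => rw [map_add, map_add, hy, hz, add_zero]

theorem Phi_of_alpha (m : ℕ) (x : ℳ m) :
    Phi hf hd (DirectSum.of (fun n => GS 𝒜 ℳ n) (m : ℤ) (GrMod.alpha 𝒜 ℳ m x)) =
      aug f (ModuleCat.of A M) (x : M) := by
  refine ext_one fun i => ?_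
  rw [val_Phi_of, val_aug]
  have h : Rep f d (GrMod.alpha 𝒜 ℳ m x : GS 𝒜 ℳ (m : ℤ)) i 0 (x : M) :=
    ⟨Or.inl ⟨m, x.2, by simp⟩, fun y hy => by
      show LocalizedModule.mk (x : M) 1 = _
      rw [LocalizedModule.mk_eq]
      exact ⟨1, by simp [Submonoid.smul_def]⟩⟩
  simpa using comp_spec hf hd h

theorem phi_injective (hcov : ∀ x : ProjectiveSpectrum 𝒜, ∃ i, f i ∉ x.asHomogeneousIdeal) :
    Function.Injective (Phi (ℳ := ℳ) hf hd) := by
  classical
  rw [injective_iff_map_eq_zero]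
  intro z hz
  refine DFinsupp.ext fun n => Groth.L18.GrM.sect_ext (ℳ := ℳ) fun x => ?_
  show at' (z n) x.1 = ((0 : GrMod.sect 𝒜 ℳ n (op ⊤)).1 x).1
  show at' (z n) x.1 = 0
  obtain ⟨i, hi⟩ := hcov x.1
  choose K a ha using fun m => exists_rep hf hd (z m) i
  let S : Finset ℤ := z.support ∪ {n}
  let K₀ := S.sup K
  have hr : ∀ m ∈ S, Rep f d (z m) i K₀ (f i ^ (K₀ - K m) • a m) := fun m hm => by
    have := rep_raise hf (ha m) (K₀ - K m)
    rwa [Nat.add_sub_cancel' (Finset.le_sup (f := K) hm)] at this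
  have hsum : z = ∑ m ∈ S, DirectSum.of (fun n => GS 𝒜 ℳ n) m (z m) := by
    conv_lhs => rw [← DirectSum.sum_support_of z]
    refine Finset.sum_subset Finset.subset_union_left fun m _ hm => ?_
    rw [DFinsupp.notMem_support_iff.1 hm, map_zero]
  have h0 : mkLoc f (ModuleCat.of A M) (one i) (∑ m ∈ S, f i ^ (K₀ - K m) • a m) = 0 := by
    rw [map_sum, ← Finset.sum_congr rfl fun m hm => comp_spec hf hd (hr m hm), ← Finset.smul_sum]
    have := congrArg (fun y => val f y (one i)) hz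
    simp only [map_zero, Pi.zero_apply] at this
    rw [hsum, map_sum, map_sum, Finset.sum_apply, Finset.sum_congr rfl fun m _ => val_Phi_of hf hd (z m) i] at this
    rw [this, smul_zero]
  obtain ⟨⟨_, l, rfl⟩, hl⟩ :=
    (IsLocalizedModule.eq_zero_iff (Submonoid.powers (cp f (one i))) (mkLoc f (ModuleCat.of A M) (one i))).1 h0
  change cp f (one i) ^ l • _ = (0 : M) at hl
  rw [cp_one] at hl
  have hn : f i ^ l • f i ^ (K₀ - K n) • a n = 0 := by
    have h1 := congrArg (part ℳ (((l • d i : ℕ) : ℤ) + (((K₀ * d i : ℕ) : ℤ) + n))) hl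
    rw [part_smul (SetLike.pow_mem_graded l (hf i)), map_sum, map_zero,
      Finset.sum_eq_single n (fun m hm hne => part_of_ne (hr m hm).1 (by omega))
        (fun h => (h (Finset.mem_union_right _ (Finset.mem_singleton_self n))).elim),
      part_self (hr n (Finset.mem_union_right _ (Finset.mem_singleton_self n))).1] at h1
    exact h1
  rw [(hr n (Finset.mem_union_right _ (Finset.mem_singleton_self n))).2 x.1 hi, ← LocalizedModule.zero_mk 1,
    LocalizedModule.mk_eq]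
  exact ⟨⟨f i ^ l, notMem_pow hi l⟩, by simpa [Submonoid.smul_def] using hn⟩

include hd in
theorem exists_preimage [Finite ι] (hcov : ∀ x : ProjectiveSpectrum 𝒜, ∃ i, f i ∉ x.asHomogeneousIdeal)
    (x : (cx f (ModuleCat.of A M)).X 0) (hx : (cx f (ModuleCat.of A M)).d 0 1 x = 0) :
    ∃ z, Phi (ℳ := ℳ) hf hd z = x := by
  classical
  cases nonempty_fintype ι
  choose k m₀ hm₀ using fun i => exists_pow_smul_eq_mk f i (val f x (one i))
  let K := Finset.univ.sup k
  obtain ⟨m, hm⟩ : ∃ m : ι → M, ∀ i,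
      f i ^ K • val f x (one i) = mkLoc f (ModuleCat.of A M) (one i) (m i) :=
    ⟨fun i => f i ^ (K - k i) • m₀ i, fun i => by
      rw [map_smul, ← hm₀, smul_smul, ← pow_add,
        Nat.sub_add_cancel (Finset.le_sup (f := k) (Finset.mem_univ i))]⟩
  have hpair : ∀ i j, ∃ N : ℕ, (f i * f j) ^ N • f j ^ K • m i = (f i * f j) ^ N • f i ^ K • m j := fun i j => by
    have h1 : Refines f (ModuleCat.of A M) (one j) ![i, j] := fun _ => inv_apply ![i, j] 1
    have h0 : Refines f (ModuleCat.of A M) (one i) ![i, j] := fun _ => inv_apply ![i, j] 0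
    have e' : mkLoc f (ModuleCat.of A M) ![i, j] (f i ^ K • m j) =
        mkLoc f (ModuleCat.of A M) ![i, j] (f j ^ K • m i) := by
      rw [map_smul, map_smul, ← res_mk h1 (m j), ← res_mk h0 (m i), ← hm j, ← hm i, map_smul, map_smul,
        res_pair_eq_of_d_eq_zero f hx i j h1 h0, smul_comm]
    obtain ⟨⟨_, N, rfl⟩, hN⟩ := (IsLocalizedModule.eq_iff_exists (Submonoid.powers (cp f ![i, j]))
      (mkLoc f (ModuleCat.of A M) ![i, j])).1 e'
    have hcp : cp f ![i, j] = f i * f j := cp_pair f ![i, j]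
    refine ⟨N, Eq.symm ?_⟩
    rw [← hcp]
    exact hN
  let a : ℤ → ι → M := fun n i => part ℳ (((K * d i : ℕ) : ℤ) + n) (m i)
  have hind : ∀ (n : ℤ) (y : ProjectiveSpectrum 𝒜) (i j : ι) (hi : f i ∉ y.asHomogeneousIdeal)
      (hj : f j ∉ y.asHomogeneousIdeal), (LocalizedModule.mk (a n i) ⟨f i ^ K, notMem_pow hi K⟩ :
        GrMod.LocMod 𝒜 (M := M) y) = LocalizedModule.mk (a n j) ⟨f j ^ K, notMem_pow hj K⟩ := by
    intro n y i j hi hj
    obtain ⟨N, hN⟩ := hpair i j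
    rw [smul_smul, smul_smul] at hN
    have h1 := congrArg (part ℳ (((N • (d i + d j) + K • d j : ℕ) : ℤ) + (((K * d i : ℕ) : ℤ) + n))) hN
    rw [part_smul (SetLike.mul_mem_graded (SetLike.pow_mem_graded N (SetLike.mul_mem_graded (hf i) (hf j)))
      (SetLike.pow_mem_graded K (hf j))),
      show ((N • (d i + d j) + K • d j : ℕ) : ℤ) + (((K * d i : ℕ) : ℤ) + n) =
        ((N • (d i + d j) + K • d i : ℕ) : ℤ) + (((K * d j : ℕ) : ℤ) + n) by push_cast [smul_eq_mul]; ring,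
      part_smul (SetLike.mul_mem_graded (SetLike.pow_mem_graded N (SetLike.mul_mem_graded (hf i) (hf j)))
      (SetLike.pow_mem_graded K (hf i)))] at h1
    rw [LocalizedModule.mk_eq]
    exact ⟨⟨(f i * f j) ^ N, notMem_pow (notMem_mul hi hj) N⟩, by
      simpa only [Submonoid.smul_def, smul_smul] using h1⟩
  choose σc hσc using hcov
  let sec : ∀ n : ℤ, GS 𝒜 ℳ n := fun n => show GrMod.sect 𝒜 ℳ n (op ⊤) from
    ⟨fun y => ⟨LocalizedModule.mk (a n (σc y.1)) ⟨f (σc y.1) ^ K, notMem_pow (hσc y.1) K⟩, by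
      rcases deg_part (ℳ := ℳ) (((K * d (σc y.1) : ℕ) : ℤ) + n) (m (σc y.1)) with ⟨e, he, he'⟩ | h
      · exact Submodule.subset_span ⟨e, K • d (σc y.1), ⟨_, he⟩,
          ⟨_, SetLike.pow_mem_graded K (hf (σc y.1))⟩, _, by rw [he', smul_eq_mul], rfl⟩
      · rw [show a n (σc y.1) = 0 from h, LocalizedModule.zero_mk]
        exact zero_mem _⟩,
    fun y => by
      let i := σc y.1
      have hV : ∀ z : (ProjectiveSpectrum.basicOpen 𝒜 (f i) : Opens (ProjectiveSpectrum.top 𝒜)),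
          f i ∉ z.1.asHomogeneousIdeal := fun z => (ProjectiveSpectrum.mem_basicOpen 𝒜 (f i) z.1).1 z.2
      rcases deg_part (ℳ := ℳ) (((K * d i : ℕ) : ℤ) + n) (m i) with ⟨e, he, he'⟩ | h
      · exact ⟨ProjectiveSpectrum.basicOpen 𝒜 (f i), (ProjectiveSpectrum.mem_basicOpen 𝒜 _ _).2 (hσc y.1),
          homOfLE le_top, e, K • d i, ⟨_, he⟩, ⟨_, SetLike.pow_mem_graded K (hf i)⟩,
          fun z => notMem_pow (hV z) K, Or.inl (by rw [he', smul_eq_mul]),
          fun z => hind n z.1 (σc z.1) i (hσc z.1) (hV z)⟩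
      · exact ⟨ProjectiveSpectrum.basicOpen 𝒜 (f i), (ProjectiveSpectrum.mem_basicOpen 𝒜 _ _).2 (hσc y.1),
          homOfLE le_top, 0, K • d i, ⟨a n i, by rw [show a n i = 0 from h]; exact zero_mem _⟩,
          ⟨_, SetLike.pow_mem_graded K (hf i)⟩, fun z => notMem_pow (hV z) K, Or.inr h,
          fun z => hind n z.1 (σc z.1) i (hσc z.1) (hV z)⟩⟩
  have hrep : ∀ n i, Rep f d (sec n) i K (a n i) := fun n i =>
    ⟨deg_part _ _, fun y hy => hind n y (σc y) i (hσc y) hy⟩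
  choose T hT using fun i => exists_finset (ℳ := ℳ) (m i) ((K * d i : ℕ) : ℤ)
  refine ⟨∑ n ∈ Finset.univ.biUnion T, DirectSum.of (fun n => GS 𝒜 ℳ n) n (sec n), ext_one fun i => ?_⟩
  refine (bijective_pow_smul (M := M) i K).1 ?_
  show f i ^ K • _ = f i ^ K • _
  rw [map_sum, map_sum, Finset.sum_apply, Finset.smul_sum,
    Finset.sum_congr rfl fun n _ => (congrArg (f i ^ K • ·) (val_Phi_of hf hd (sec n) i)).trans
      (comp_spec hf hd (hrep n i)), ← map_sum, hm]
  refine congrArg _ (sum_part_eq (m i) _ _ fun n hn => ?_)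
  exact Finset.mem_biUnion.2 ⟨i, Finset.mem_univ _, hT i n hn⟩

end Groth.L04.ProjLC
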