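import Groth.Agent.L04.ProjLC.Part
import Groth.Agent.L04.Koszul.CechBridge
import Groth.Agent.L18.GrTildeQCoh

/-!
# Sections of `M(n)~` over intersections of basic opens
-/

set_option autoImplicit false
set_option linter.unusedSectionVars false
set_option backward.isDefEq.respectTransparency.types false
universe u

open CategoryTheory CategoryTheory.Limits AlgebraicGeometry TopologicalSpace Opposite
open Groth.L04.Koszul.Cech

noncomputable section

namespace Groth.L04.ProjLC.Tuple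

open Groth.L16.ProjTwist (notMem_pow notMem_mul)

variable {R A : Type u} [CommRing R] [CommRing A] [Algebra R A] {𝒜 : ℕ → Submodule R A}
  [GradedAlgebra 𝒜]
variable {M : Type u} [AddCommGroup M] [Module R M] [Module A M] [IsScalarTower R A M]
  {ℳ : ℕ → Submodule R M} [DirectSum.Decomposition ℳ] [SetLike.GradedSMul 𝒜 ℳ]
  {ι : Type u} {f : ι → A} {d : ι → ℕ}

variable (𝒜 f) in
/-- The cover. -/
abbrev cov : ι → (Proj 𝒜).Opens := fun i => Proj.basicOpen 𝒜 (f i)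

variable (d) in
/-- The degree of the product over a tuple. -/
def deg {k : ℕ} (a : Fin (k + 1) → ι) : ℕ := ∑ j, d (a j)

theorem deg_pos (hd : ∀ i, 0 < d i) {k : ℕ} (a : Fin (k + 1) → ι) : 0 < deg d a :=
  (hd (a 0)).trans_le (Finset.single_le_sum (f := fun j => d (a j)) (fun _ _ => Nat.zero_le _) (Finset.mem_univ 0))

theorem cp_mem (hf : ∀ i, f i ∈ 𝒜 (d i)) {k : ℕ} (a : Fin (k + 1) → ι) : cp f a ∈ 𝒜 (deg d a) :=
  SetLike.prod_mem_graded 𝒜 (fun j => d (a j)) (fun j => f (a j)) fun j _ => hf (a j)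

theorem tup_eq {k : ℕ} (a : Fin (k + 1) → ι) :
    Groth.L10.Cech.tup (cov 𝒜 f) a = Proj.basicOpen 𝒜 (cp f a) := by
  rw [Groth.L10.Cech.tup_eq_iInf (X := (Proj 𝒜).toTopCat) (cov 𝒜 f) a]
  induction k with
  | zero =>
    rw [show cp f a = f (a 0) from Fin.prod_univ_one _]
    exact ((le_iInf fun j => (congrArg (fun j => cov 𝒜 f (a j))
      (Subsingleton.elim (α := Fin 1) j (0 : Fin 1))).ge).antisymm (iInf_le _ (0 : Fin 1))).symm
  | succ n ih =>
    rw [show cp f a = f (a 0) * cp f (a ∘ Fin.succ) from Fin.prod_univ_succ _, Proj.basicOpen_mul, ← ih]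
    refine le_antisymm (le_inf (iInf_le _ 0) (le_iInf fun j => iInf_le _ j.succ)) (le_iInf fun j => ?_)
    refine Fin.cases ?_ ?_ j
    · exact inf_le_left
    · exact fun j => inf_le_right.trans (iInf_le _ j)

theorem mem_tup {k : ℕ} (a : Fin (k + 1) → ι) (x : ProjectiveSpectrum 𝒜) :
    x ∈ (Groth.L10.Cech.tup (cov 𝒜 f) a : Opens (ProjectiveSpectrum.top 𝒜)) ↔ cp f a ∉ x.asHomogeneousIdeal := by
  exact (Iff.of_eq (congrArg (fun U : (Proj 𝒜).Opens => x ∈ (U : Opens (ProjectiveSpectrum.top 𝒜))) (tup_eq a))).trans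
    (Proj.mem_basicOpen _ _ _)

/-- Sections over the intersection. -/
abbrev S (𝒜 : ℕ → Submodule R A) [GradedAlgebra 𝒜] (ℳ : ℕ → Submodule R M) [SetLike.GradedSMul 𝒜 ℳ]
    (f : ι → A) {k : ℕ} (a : Fin (k + 1) → ι) (n : ℤ) : Type u :=
  ((GrTilde.tildePre 𝒜 ℳ n).obj (op (Groth.L10.Cech.tup (cov 𝒜 f) a : Opens (ProjectiveSpectrum.top 𝒜))) : Type u)

/-- A section as a function. -/
abbrev sv {k : ℕ} {a : Fin (k + 1) → ι} {n : ℤ} (s : S 𝒜 ℳ f a n) :
    GrTilde.sect 𝒜 ℳ n (op (Groth.L10.Cech.tup (cov 𝒜 f) a : Opens (ProjectiveSpectrum.top 𝒜))) := s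

variable (f d) in
/-- `s` is the fraction `x / (∏ f) ^ K`. -/
def Rep {k : ℕ} {a : Fin (k + 1) → ι} {n : ℤ} (s : S 𝒜 ℳ f a n) (K : ℕ) (b : M) : Prop :=
  Deg ℳ (((K * deg d a : ℕ) : ℤ) + n) b ∧
    ∀ x, ((sv s).1 x).1 = LocalizedModule.mk b ⟨cp f a ^ K, notMem_pow 𝒜 ((mem_tup a x.1).1 x.2) K⟩

variable (hf : ∀ i, f i ∈ 𝒜 (d i)) (hd : ∀ i, 0 < d i) {k : ℕ} {a : Fin (k + 1) → ι} {n : ℤ}

include hf hd in
theorem exists_rep (s : S 𝒜 ℳ f a n) : ∃ (K : ℕ) (b : M), Rep f d s K b := by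
  obtain ⟨K, m, b, hb, hm, h⟩ := Groth.L18.GrT.exists_eq_mk (deg_pos hd a) (cp_mem hf a) (mem_tup a) (sv s)
  exact ⟨K, b, Or.inl ⟨m, hb, hm⟩, h⟩

include hf in
theorem rep_raise {s : S 𝒜 ℳ f a n} {K : ℕ} {b : M} (h : Rep f d s K b) (c : ℕ) :
    Rep f d s (K + c) (cp f a ^ c • b) := by
  refine ⟨?_, fun x => (h.2 x).trans ?_⟩
  · have := deg_smul (ℳ := ℳ) (SetLike.pow_mem_graded c (cp_mem hf a)) h.1
    rwa [show ((c • deg d a : ℕ) : ℤ) + (((K * deg d a : ℕ) : ℤ) + n) = (((K + c) * deg d a : ℕ) : ℤ) + n by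
      push_cast [smul_eq_mul]; ring] at this
  · rw [LocalizedModule.mk_eq]
    exact ⟨1, by simp only [one_smul, Submonoid.smul_def, smul_smul, pow_add]⟩

theorem bijective_pow_smul (a : Fin (k + 1) → ι) (K : ℕ) :
    Function.Bijective fun z : loc f (ModuleCat.of A M) a => cp f a ^ K • z := by
  have h : IsUnit (algebraMap A (Module.End A (loc f (ModuleCat.of A M) a)) (cp f a ^ K)) := by
    rw [map_pow]
    exact IsUnit.pow K (inv_of_dvd a dvd_rfl)
  exact (Module.End.isUnit_iff _).1 h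

include hf hd in
theorem rep_unique {s : S 𝒜 ℳ f a n} {K K' : ℕ} {b b' : M} (h : Rep f d s K b) (h' : Rep f d s K' b') :
    cp f a ^ K' • mkLoc f (ModuleCat.of A M) a b = cp f a ^ K • mkLoc f (ModuleCat.of A M) a b' := by
  have e1 := (rep_raise hf h K').1
  have e2 := (rep_raise hf h' K).1
  rw [add_comm K' K] at e2
  obtain ⟨m, hm, hm'⟩ := exists_common e1 e2
  obtain ⟨l, hl⟩ := Groth.L18.GrT.exists_pow_smul_eq_of_forall_mk_eq (ℳ := ℳ) (deg_pos hd a) (cp_mem hf a)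
    (a := b) (b := b') (s := cp f a ^ K) (t := cp f a ^ K') hm hm' (fun x hx => notMem_pow 𝒜 hx K)
    (fun x hx => notMem_pow 𝒜 hx K')
    fun x hx => (h.2 ⟨x, (mem_tup a x).2 hx⟩).symm.trans (h'.2 ⟨x, (mem_tup a x).2 hx⟩)
  refine (bijective_pow_smul a l).1 ?_
  show cp f a ^ l • _ = cp f a ^ l • _
  rw [← map_smul, ← map_smul, ← map_smul, ← map_smul, hl]

include hf hd in
theorem exists_comp (s : S 𝒜 ℳ f a n) : ∃ z : loc f (ModuleCat.of A M) a,
    ∀ K b, Rep f d s K b → cp f a ^ K • z = mkLoc f (ModuleCat.of A M) a b := by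
  obtain ⟨K₀, b₀, h₀⟩ := exists_rep hf hd s
  obtain ⟨z, hz⟩ := (bijective_pow_smul a K₀).2 (mkLoc f (ModuleCat.of A M) a b₀)
  refine ⟨z, fun K b h => (bijective_pow_smul a K₀).1 ?_⟩
  show cp f a ^ K₀ • cp f a ^ K • z = cp f a ^ K₀ • mkLoc f (ModuleCat.of A M) a b
  rw [smul_comm]
  exact (congrArg (cp f a ^ K • ·) hz).trans (rep_unique hf hd h₀ h)

/-- The component in the localisation. -/
def comp (s : S 𝒜 ℳ f a n) : loc f (ModuleCat.of A M) a := (exists_comp hf hd s).choose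

theorem comp_spec {s : S 𝒜 ℳ f a n} {K : ℕ} {b : M} (h : Rep f d s K b) :
    cp f a ^ K • comp hf hd s = mkLoc f (ModuleCat.of A M) a b :=
  (exists_comp hf hd s).choose_spec K b h

theorem comp_add (s t : S 𝒜 ℳ f a n) : comp hf hd (s + t) = comp hf hd s + comp hf hd t := by
  obtain ⟨K, b, hb⟩ := exists_rep hf hd s
  obtain ⟨L, c, hc⟩ := exists_rep hf hd t
  have hb' := rep_raise hf hb L
  have hc' := rep_raise hf hc K
  rw [add_comm L K] at hc'
  have hbc : Rep f d (s + t) (K + L) (cp f a ^ L • b + cp f a ^ K • c) := ⟨deg_add hb'.1 hc'.1, fun x => by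
    show ((sv s).1 x).1 + ((sv t).1 x).1 = _
    rw [hb'.2 x, hc'.2 x, LocalizedModule.mk_add_mk, LocalizedModule.mk_eq]
    exact ⟨1, by simp only [one_smul, Submonoid.smul_def, smul_add, smul_smul, Submonoid.coe_mul, mul_assoc]⟩⟩
  refine (bijective_pow_smul a (K + L)).1 ?_
  show cp f a ^ (K + L) • _ = cp f a ^ (K + L) • _
  rw [comp_spec hf hd hbc, smul_add, comp_spec hf hd hb', comp_spec hf hd hc', map_add]

/-- The component, additively. -/
def compHom (a : Fin (k + 1) → ι) (n : ℤ) : S 𝒜 ℳ f a n →+ loc f (ModuleCat.of A M) a :=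
  AddMonoidHom.mk' (comp hf hd) (comp_add hf hd)

theorem comp_res {k : ℕ} (b : Fin (k + 2) → ι) (j : Fin (k + 2))
    (hle : Groth.L10.Cech.tup (cov 𝒜 f) b ≤ Groth.L10.Cech.tup (cov 𝒜 f) (b ∘ j.succAbove))
    (h : Refines f (ModuleCat.of A M) (b ∘ j.succAbove) b) (s : S 𝒜 ℳ f (b ∘ j.succAbove) n) :
    comp hf hd (a := b) (GrTilde.res 𝒜 ℳ n (homOfLE hle).op s) = res h (comp hf hd s) := by
  obtain ⟨K, c, hc⟩ := exists_rep hf hd s
  have hcp : cp f b = f (b j) * cp f (b ∘ j.succAbove) := Fin.prod_univ_succAbove (fun l => f (b l)) j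
  have hdeg : deg d b = d (b j) + deg d (b ∘ j.succAbove) := Fin.sum_univ_succAbove (fun l => d (b l)) j
  have hr : Rep f d (a := b) (GrTilde.res 𝒜 ℳ n (homOfLE hle).op s) K (f (b j) ^ K • c) := by
    refine ⟨?_, fun x => (hc.2 ⟨x.1, hle x.2⟩).trans ?_⟩
    · have := deg_smul (ℳ := ℳ) (SetLike.pow_mem_graded K (hf (b j))) hc.1
      rwa [show ((K • d (b j) : ℕ) : ℤ) + (((K * deg d (b ∘ j.succAbove) : ℕ) : ℤ) + n) =
        ((K * deg d b : ℕ) : ℤ) + n by rw [hdeg]; push_cast [smul_eq_mul]; ring] at this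
    · rw [LocalizedModule.mk_eq]
      exact ⟨1, by simp only [one_smul, Submonoid.smul_def, smul_smul, hcp, mul_pow, mul_comm]⟩
  refine (bijective_pow_smul b K).1 ?_
  show cp f b ^ K • _ = cp f b ^ K • _
  rw [comp_spec hf hd hr, show cp f b ^ K = f (b j) ^ K * cp f (b ∘ j.succAbove) ^ K by rw [hcp, mul_pow],
    mul_smul, ← map_smul (res h), comp_spec hf hd hc, res_mk, map_smul]

/-- The comparison of the direct sum over the twists with the localisation. -/
def total (a : Fin (k + 1) → ι) : DirectSum ℤ (fun n => S 𝒜 ℳ f a n) →+ loc f (ModuleCat.of A M) a :=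
  DirectSum.toAddMonoid (compHom hf hd a)

theorem total_of (s : S 𝒜 ℳ f a n) :
    total hf hd a (DirectSum.of (fun n => S 𝒜 ℳ f a n) n s) = comp hf hd s :=
  DirectSum.toAddMonoid_of _ _ _

theorem total_injective (a : Fin (k + 1) → ι) : Function.Injective (total (ℳ := ℳ) hf hd a) := by
  classical
  rw [injective_iff_map_eq_zero]
  intro z hz
  refine DFinsupp.ext fun n => Groth.L18.GrT.sect_ext (ℳ := ℳ) fun x => ?_
  show ((sv (z n)).1 x).1 = 0
  choose K b hb using fun m => exists_rep hf hd (z m)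
  let T : Finset ℤ := z.support ∪ {n}
  let K₀ := T.sup K
  have hnT : n ∈ T := Finset.mem_union_right _ (Finset.mem_singleton_self n)
  have hr : ∀ m ∈ T, Rep f d (z m) K₀ (cp f a ^ (K₀ - K m) • b m) := fun m hm => by
    have := rep_raise hf (hb m) (K₀ - K m)
    rwa [Nat.add_sub_cancel' (Finset.le_sup (f := K) hm)] at this
  have hsum : z = ∑ m ∈ T, DirectSum.of (fun n => S 𝒜 ℳ f a n) m (z m) := by
    conv_lhs => rw [← DirectSum.sum_support_of z]
    refine Finset.sum_subset Finset.subset_union_left fun m _ hm => ?_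
    rw [DFinsupp.notMem_support_iff.1 hm, map_zero]
  have h0 : mkLoc f (ModuleCat.of A M) a (∑ m ∈ T, cp f a ^ (K₀ - K m) • b m) = 0 := by
    rw [map_sum, ← Finset.sum_congr rfl fun m hm => comp_spec hf hd (hr m hm), ← Finset.smul_sum]
    rw [hsum, map_sum, Finset.sum_congr rfl fun m _ => total_of hf hd (z m)] at hz
    rw [hz, smul_zero]
  obtain ⟨⟨_, l, rfl⟩, hl⟩ :=
    (IsLocalizedModule.eq_zero_iff (Submonoid.powers (cp f a)) (mkLoc f (ModuleCat.of A M) a)).1 h0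
  change cp f a ^ l • _ = (0 : M) at hl
  have hn : cp f a ^ l • cp f a ^ (K₀ - K n) • b n = 0 := by
    have h1 := congrArg (part ℳ (((l • deg d a : ℕ) : ℤ) + (((K₀ * deg d a : ℕ) : ℤ) + n))) hl
    rw [part_smul (SetLike.pow_mem_graded l (cp_mem hf a)), map_sum, map_zero,
      Finset.sum_eq_single n (fun m hm hne => part_of_ne (hr m hm).1 (by omega))
        (fun h => (h hnT).elim), part_self (hr n hnT).1] at h1
    exact h1
  rw [(hr n hnT).2 x, ← LocalizedModule.zero_mk 1, LocalizedModule.mk_eq]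
  exact ⟨⟨cp f a ^ l, notMem_pow 𝒜 ((mem_tup a x.1).1 x.2) l⟩, by simpa [Submonoid.smul_def] using hn⟩

theorem total_surjective (a : Fin (k + 1) → ι) : Function.Surjective (total (ℳ := ℳ) hf hd a) := by
  classical
  intro z
  obtain ⟨⟨m, ⟨_, K, rfl⟩⟩, hK⟩ := IsLocalizedModule.surj (Submonoid.powers (cp f a))
    (mkLoc f (ModuleCat.of A M) a) z
  have hex : ∀ n : ℤ, ∃ s : S 𝒜 ℳ f a n, Rep f d s K (part ℳ (((K * deg d a : ℕ) : ℤ) + n) m) := fun n => by
    rcases deg_part (ℳ := ℳ) (((K * deg d a : ℕ) : ℤ) + n) m with ⟨e, he, he'⟩ | h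
    · exact ⟨Groth.L18.GrT.gen ⟨_, he⟩ ⟨_, SetLike.pow_mem_graded K (cp_mem hf a)⟩
        (by rw [he', smul_eq_mul]) _ (fun x => notMem_pow 𝒜 ((mem_tup a x.1).1 x.2) K),
        deg_part _ _, fun _ => rfl⟩
    · refine ⟨0, deg_part _ _, fun x => ?_⟩
      rw [h, LocalizedModule.zero_mk]
      rfl
  choose s hs using hex
  obtain ⟨T, hT⟩ := exists_finset (ℳ := ℳ) m ((K * deg d a : ℕ) : ℤ)
  refine ⟨∑ n ∈ T, DirectSum.of (fun n => S 𝒜 ℳ f a n) n (s n), (bijective_pow_smul a K).1 ?_⟩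
  show cp f a ^ K • _ = cp f a ^ K • z
  rw [map_sum, Finset.smul_sum, Finset.sum_congr rfl fun n _ => (congrArg (cp f a ^ K • ·)
    (total_of hf hd (s n))).trans (comp_spec hf hd (hs n)), ← map_sum, sum_part_eq m _ T hT]
  exact hK.symm

end Groth.L04.ProjLC.Tuple
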