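import Groth.Agent.L04.ProjLC.SumHomology
import Groth.Agent.L04.ProjLC.TupleSections
import Groth.Agent.L04.Koszul.Main

/-!
# Higher cohomology of the twists on unions of basic opens of `Proj`
-/

set_option autoImplicit false
set_option linter.unusedSectionVars false
set_option backward.isDefEq.respectTransparency.types false
universe u

open CategoryTheory CategoryTheory.Limits AlgebraicGeometry TopologicalSpace Opposite
open Groth.L04.Koszul.Cech Groth.L04.ProjLC.Tuple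

noncomputable section

namespace Groth.L04.ProjLC

variable {R A : Type u} [CommRing R] [CommRing A] [Algebra R A] {𝒜 : ℕ → Submodule R A}
  [GradedAlgebra 𝒜]
variable {M : Type u} [AddCommGroup M] [Module R M] [Module A M] [IsScalarTower R A M]
  {ℳ : ℕ → Submodule R M} [DirectSum.Decomposition ℳ] [SetLike.GradedSMul 𝒜 ℳ]
  {ι : Type u} {f : ι → A} {d : ι → ℕ} (hf : ∀ i, f i ∈ 𝒜 (d i)) (hd : ∀ i, 0 < d i)

variable (𝒜 ℳ f) in
/-- The Čech complex of `M(n)~`. -/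
abbrev cxQ (n : ℤ) : CochainComplex AddCommGrpCat.{u} ℕ :=
  Groth.L10.Cech.cx (𝟭 (Proj 𝒜).Opens) (cov 𝒜 f) (GrTilde.tilde 𝒜 ℳ n).presheaf

variable (f) in
/-- The localisation complex as a complex of groups. -/
abbrev cxA : CochainComplex AddCommGrpCat.{u} ℕ :=
  ((forget₂ (ModuleCat.{u} A) AddCommGrpCat.{u}).mapHomologicalComplex (ComplexShape.up ℕ)).obj
    (cx f (ModuleCat.of A M))

/-- The component of a cochain. -/
def coS {n : ℤ} {k : ℕ} (a : Fin (k + 1) → ι) : ((cxQ 𝒜 ℳ f n).X k : Type u) →+ S 𝒜 ℳ f a n :=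
  Groth.L10.Cech.co (π := 𝟭 (Proj 𝒜).Opens) (Y := cov 𝒜 f) a

/-- The comparison on cochains. -/
def cmp (n : ℤ) (k : ℕ) : ((cxQ 𝒜 ℳ f n).X k : Type u) →+ ((cxA (M := M) f).X k : Type u) :=
  AddMonoidHom.mk' (fun x => mkC f fun a => comp hf hd (coS a x)) fun x y => ext_val f fun a => by
    show comp hf hd (coS a (x + y)) = comp hf hd (coS a x) + comp hf hd (coS a y)
    rw [map_add, comp_add]

theorem val_cmp {n : ℤ} {k : ℕ} (x : (cxQ 𝒜 ℳ f n).X k) (a : Fin (k + 1) → ι) :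
    val f (cmp hf hd n k x) a = comp hf hd (coS a x) := rfl

theorem cmp_d (n : ℤ) (k : ℕ) (x : (cxQ 𝒜 ℳ f n).X k) :
    (cxA (M := M) f).d k (k + 1) (cmp hf hd n k x) = cmp hf hd n (k + 1) ((cxQ 𝒜 ℳ f n).d k (k + 1) x) := by
  refine ext_val f fun a => ?_
  show val f ((cx f (ModuleCat.of A M)).d k (k + 1) (cmp hf hd n k x)) a = _
  rw [val_d, val_cmp]
  rw [show coS a ((cxQ 𝒜 ℳ f n).d k (k + 1) x) = ∑ j : Fin (k + 2), (-1 : ℤ) ^ (j : ℕ) •
      ((GrTilde.res 𝒜 ℳ n (homOfLE (Groth.L10.Cech.face (cov 𝒜 f) j a).le).op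
        (sv (coS (a ∘ j.succAbove) x)) : GrTilde.sect 𝒜 ℳ n _) : S 𝒜 ℳ f a n) from Groth.L10.Cech.co_d a x]
  refine ((map_sum (compHom hf hd a n) _ _).trans (Finset.sum_congr rfl fun j _ => ?_)).symm
  refine (map_zsmul (compHom hf hd a n) _ _).trans (congrArg _ ?_)
  exact comp_res hf hd a j _ _ _

/-- The comparison of complexes. -/
def cmpHom (n : ℤ) : cxQ 𝒜 ℳ f n ⟶ cxA (M := M) f where
  f k := AddCommGrpCat.ofHom (cmp hf hd n k)
  comm' := by
    rintro i _ (rfl : i + 1 = _)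
    exact AddCommGrpCat.hom_ext (AddMonoidHom.ext fun x => cmp_d hf hd n i x)

/-- The component of a family of cochains. -/
def coSum {k : ℕ} (a : Fin (k + 1) → ι) :
    DirectSum ℤ (fun n => ((cxQ 𝒜 ℳ f n).X k : Type u)) →+ DirectSum ℤ (fun n => S 𝒜 ℳ f a n) :=
  DirectSum.map fun _ => coS a

theorem val_sumMap {k : ℕ} (z : DirectSum ℤ (fun n => ((cxQ 𝒜 ℳ f n).X k : Type u)))
    (a : Fin (k + 1) → ι) :
    val f (sumMap (cmpHom (ℳ := ℳ) hf hd) k z) a = total hf hd a (coSum a z) := by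
  induction z using DirectSum.induction_on with
  | zero => simp only [map_zero]; rfl
  | of n x =>
    rw [sumMap_of, coSum, DirectSum.map_of, Tuple.total_of]
    exact val_cmp hf hd x a
  | add y z hy hz =>
    rw [map_add (coSum a), map_add (total hf hd a), ← hy, ← hz, map_add (sumMap (cmpHom (ℳ := ℳ) hf hd) k)]
    rfl

theorem sumMap_bijective [Finite ι] (k : ℕ) :
    Function.Bijective (sumMap (cmpHom (ℳ := ℳ) hf hd) k) := by
  classical
  refine ⟨(injective_iff_map_eq_zero _).2 fun z hz => DFinsupp.ext fun n => ?_, fun y => ?_⟩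
  · refine Groth.L10.Cech.co_ext fun a => ?_
    have h : total hf hd a (coSum a z) = 0 := by rw [← val_sumMap, hz]; rfl
    have h' := (injective_iff_map_eq_zero _).1 (total_injective (ℳ := ℳ) hf hd a) _ h
    have h'' := congrFun (congrArg DFunLike.coe h') n
    rw [coSum, DirectSum.map_apply] at h''
    exact h''.trans (map_zero (coS (n := n) a)).symm
  · choose z hz using fun a : Fin (k + 1) → ι => total_surjective (ℳ := ℳ) hf hd a (val f (y : (cx f (ModuleCat.of A M)).X k) a)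
    have := Fintype.ofFinite (Fin (k + 1) → ι)
    let T : Finset ℤ := Finset.univ.biUnion fun a => (z a).support
    let x : ∀ n : ℤ, ((cxQ 𝒜 ℳ f n).X k : Type u) := fun n => Groth.L10.Cech.mk fun a => z a n
    refine ⟨∑ n ∈ T, DirectSum.of (fun n => ((cxQ 𝒜 ℳ f n).X k : Type u)) n (x n), ext_val f fun a => ?_⟩
    rw [val_sumMap, ← hz a]
    refine congrArg _ ?_
    rw [map_sum]
    conv_rhs => rw [← DirectSum.sum_support_of (z a)]
    have e : ∀ n, coSum a (DirectSum.of (fun n => ((cxQ 𝒜 ℳ f n).X k : Type u)) n (x n)) =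
        DirectSum.of (fun n => S 𝒜 ℳ f a n) n (z a n) := fun n => by
      rw [coSum, DirectSum.map_of]
      exact congrArg _ (Groth.L10.Cech.co_mk (π := 𝟭 (Proj 𝒜).Opens) (Y := cov 𝒜 f) (fun a => z a n) a)
    simp only [e]
    refine (Finset.sum_subset (fun n hn => Finset.mem_biUnion.2 ⟨a, Finset.mem_univ _, hn⟩) fun n _ hn => ?_).symm
    rw [DFinsupp.notMem_support_iff.1 hn, map_zero]

include hf hd in
theorem nonempty_sum_cechH_equiv [Finite ι] (p : ℕ) :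
    Nonempty (DirectSum ℤ (fun n => (CohB1.cechH (cov 𝒜 f) (GrTilde.tilde 𝒜 ℳ n) (p + 1) : Type u)) ≃+
      ((cx f (ModuleCat.of A M)).homology (p + 1) : Type u)) := by
  obtain ⟨e⟩ := nonempty_homology_equiv (cmpHom (ℳ := ℳ) hf hd) (sumMap_bijective (ℳ := ℳ) hf hd)
    (i := p) (j := p + 1) (k := p + 2) (by simp) (by simp)
  exact ⟨e.trans (((cx f (ModuleCat.of A M)).sc (p + 1)).mapHomologyIso
    (forget₂ (ModuleCat.{u} A) AddCommGrpCat.{u})).addCommGroupIsoToAddEquiv⟩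

theorem nonempty_hhon_sum_equiv (fs : List A) (hfs : ∀ a ∈ fs, ∃ d : ℕ, 0 < d ∧ a ∈ 𝒜 d)
    (p : ℕ) (hp : 1 ≤ p) :
    Nonempty (DirectSum ℤ (fun n : ℤ => Coh.HHon (Proj 𝒜) (GrTilde.tilde 𝒜 ℳ n)
        (⨆ i : Fin fs.length, Proj.basicOpen 𝒜 (fs.get i)) p) ≃+
      CohIII.koszulHLim fs (ModuleCat.of A M) (p + 1)) := by
  classical
  obtain ⟨q, rfl⟩ : ∃ q, p = q + 1 := ⟨p - 1, by omega⟩
  choose d hd hfd using fun i : ULift.{u} (Fin fs.length) => hfs (fam fs i) (List.get_mem fs i.down)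
  obtain ⟨e⟩ := nonempty_sum_cechH_equiv (ℳ := ℳ) hfd hd q
  obtain ⟨e'⟩ := nonempty_HLim_equiv_cx fs (ModuleCat.of A M) (q + 1) hp
    ((q + 1 + 1 : ℕ) - fs.length) (sub_add_cancel _ _)
  have hU : ∀ (m : ℕ) (a : Fin (m + 1) → ULift.{u} (Fin fs.length)),
      IsAffineOpen (⨅ j, cov 𝒜 (fam fs) (a j)) := fun m a => by
    rw [← Groth.L10.Cech.tup_eq_iInf (X := (Proj 𝒜).toTopCat) (cov 𝒜 (fam fs)) a]
    exact (tup_eq (𝒜 := 𝒜) a).symm ▸ Proj.isAffineOpen_basicOpen 𝒜 _ (cp_mem hfd a) (deg_pos hd a)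
  have hsup : (⨆ i, cov 𝒜 (fam fs) i) = ⨆ i : Fin fs.length, Proj.basicOpen 𝒜 (fs.get i) :=
    le_antisymm (iSup_le fun i => le_iSup (fun i : Fin fs.length => Proj.basicOpen 𝒜 (fs.get i)) i.down)
      (iSup_le fun i => le_iSup (cov 𝒜 (fam fs)) ⟨i⟩)
  have hc : ∀ n : ℤ, Nonempty (Coh.HHon (Proj 𝒜) (GrTilde.tilde 𝒜 ℳ n)
      (⨆ i : Fin fs.length, Proj.basicOpen 𝒜 (fs.get i)) (q + 1) ≃+
      (CohB1.cechH (cov 𝒜 (fam fs)) (GrTilde.tilde 𝒜 ℳ n) (q + 1) : Type u)) := fun n => by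
    have := Groth.L18.GrT.isQCoh_tilde 𝒜 ℳ n
    obtain ⟨a⟩ := Groth.L17.nonempty_cechH_equiv (cov 𝒜 (fam fs)) (GrTilde.tilde 𝒜 ℳ n) hU (q + 1)
    obtain ⟨b⟩ := Groth.L17.nonempty_hhon_equiv (GrTilde.tilde 𝒜 ℳ n)
      (⨆ i : Fin fs.length, Proj.basicOpen 𝒜 (fs.get i)) (q + 1)
    rw [hsup] at a
    exact ⟨b.trans a.symm⟩
  exact ⟨(DirectSum.congrAddEquiv fun n => (hc n).some).trans (e.trans e'.symm.toAddEquiv)⟩

end Groth.L04.ProjLC
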