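import Groth.Agent.L18.GrMod.QCoh

/-!
# Components of a graded module in integral degrees
-/

set_option autoImplicit false
set_option linter.unusedSectionVars false
universe u

noncomputable section

namespace Groth.L04.ProjLC

variable {A σ : Type u} [CommRing A] [SetLike σ A] [AddSubgroupClass σ A] {𝒜 : ℕ → σ} [GradedRing 𝒜]
variable {M τ : Type u} [AddCommGroup M] [Module A M] [SetLike τ M] [AddSubgroupClass τ M]
  {ℳ : ℕ → τ} [DirectSum.Decomposition ℳ] [SetLike.GradedSMul 𝒜 ℳ]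

variable (ℳ) in
/-- Homogeneous of integral degree `e`. -/
def Deg (e : ℤ) (a : M) : Prop := (∃ m : ℕ, a ∈ ℳ m ∧ (m : ℤ) = e) ∨ a = 0

variable (ℳ) in
/-- The component of integral degree `e`. -/
def part (e : ℤ) : M →+ M where
  toFun z := if 0 ≤ e then (DirectSum.decompose ℳ z e.toNat : M) else 0
  map_zero' := by simp
  map_add' y z := by split <;> simp

theorem part_nonneg {e : ℤ} (he : 0 ≤ e) (z : M) :
    part ℳ e z = (DirectSum.decompose ℳ z e.toNat : M) := if_pos he

theorem part_neg {e : ℤ} (he : ¬ 0 ≤ e) (z : M) : part ℳ e z = 0 := if_neg he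

theorem part_natCast (m : ℕ) (z : M) : part ℳ (m : ℤ) z = (DirectSum.decompose ℳ z m : M) := by
  rw [part_nonneg (Int.natCast_nonneg m)]
  rfl

theorem deg_part (e : ℤ) (z : M) : Deg ℳ e (part ℳ e z) := by
  by_cases he : 0 ≤ e
  · exact Or.inl ⟨e.toNat, by rw [part_nonneg he]; exact SetLike.coe_mem _, Int.toNat_of_nonneg he⟩
  · exact Or.inr (part_neg he z)

theorem part_of_mem {j : ℕ} {x : M} (hx : x ∈ ℳ j) (e : ℤ) :
    part ℳ e x = if (j : ℤ) = e then x else 0 := by
  by_cases he : 0 ≤ e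
  · rw [part_nonneg he]
    split_ifs with h
    · subst h
      exact DirectSum.decompose_of_mem_same ℳ hx
    · exact DirectSum.decompose_of_mem_ne ℳ hx fun h' => h (by omega)
  · rw [part_neg he, if_neg (by omega)]

theorem part_self {e : ℤ} {a : M} (h : Deg ℳ e a) : part ℳ e a = a := by
  rcases h with ⟨m, hm, rfl⟩ | rfl
  · rw [part_of_mem hm, if_pos rfl]
  · exact map_zero _

theorem part_of_ne {e e' : ℤ} {a : M} (h : Deg ℳ e a) (hne : e ≠ e') : part ℳ e' a = 0 := by
  rcases h with ⟨m, hm, rfl⟩ | rfl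
  · rw [part_of_mem hm, if_neg hne]
  · exact map_zero _

theorem part_smul {h : ℕ} {H : A} (hH : H ∈ 𝒜 h) (e : ℤ) (z : M) :
    part ℳ ((h : ℤ) + e) (H • z) = H • part ℳ e z := by
  induction z using DirectSum.Decomposition.inductionOn ℳ with
  | zero => simp
  | homogeneous x =>
    rename_i j
    have h1 : H • (x : M) ∈ ℳ (h + j) := SetLike.GradedSMul.smul_mem hH x.2
    rw [part_of_mem x.2, part_of_mem h1]
    by_cases hje : (j : ℤ) = e
    · rw [if_pos hje, if_pos (by omega)]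
    · rw [if_neg hje, if_neg (by omega), smul_zero]
  | add a b ha hb => simp only [smul_add, map_add, ha, hb]

theorem deg_smul {h : ℕ} {H : A} (hH : H ∈ 𝒜 h) {e : ℤ} {a : M} (ha : Deg ℳ e a) :
    Deg ℳ ((h : ℤ) + e) (H • a) := by
  rcases ha with ⟨m, hm, rfl⟩ | rfl
  · exact Or.inl ⟨h + m, SetLike.GradedSMul.smul_mem hH hm, Nat.cast_add _ _⟩
  · exact Or.inr (smul_zero _)

omit [DirectSum.Decomposition ℳ] in
theorem deg_add {e : ℤ} {a b : M} (ha : Deg ℳ e a) (hb : Deg ℳ e b) : Deg ℳ e (a + b) := by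
  rcases ha with ⟨m, hm, rfl⟩ | rfl
  · rcases hb with ⟨m', hm', h⟩ | rfl
    · obtain rfl : m' = m := Nat.cast_injective h
      exact Or.inl ⟨_, add_mem hm hm', rfl⟩
    · rw [add_zero]; exact Or.inl ⟨m, hm, rfl⟩
  · rwa [zero_add]

omit [DirectSum.Decomposition ℳ] in
theorem exists_common {e : ℤ} {a b : M} (ha : Deg ℳ e a) (hb : Deg ℳ e b) :
    ∃ m : ℕ, a ∈ ℳ m ∧ b ∈ ℳ m := by
  rcases ha with ⟨m, hm, rfl⟩ | rfl
  · rcases hb with ⟨m', hm', h⟩ | rfl
    · obtain rfl : m' = m := Nat.cast_injective h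
      exact ⟨_, hm, hm'⟩
    · exact ⟨m, hm, zero_mem _⟩
  · rcases hb with ⟨m', hm', h⟩ | rfl
    · exact ⟨m', zero_mem _, hm'⟩
    · exact ⟨0, zero_mem _, zero_mem _⟩

/-- The finitely many shifts carrying all the components. -/
theorem sum_part_eq (z : M) (c : ℤ) (T : Finset ℤ)
    (hT : ∀ n : ℤ, part ℳ (c + n) z ≠ 0 → n ∈ T) : ∑ n ∈ T, part ℳ (c + n) z = z := by
  classical
  let S : Finset ℕ := (DirectSum.decompose ℳ z).support
  have hT' : ∑ n ∈ T, part ℳ (c + n) z = ∑ n ∈ T ∪ S.image (fun e : ℕ => (e : ℤ) - c), part ℳ (c + n) z :=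
    Finset.sum_subset Finset.subset_union_left fun n _ hn => by
      by_contra h
      exact hn (hT n h)
  rw [hT', ← Finset.sum_subset (s₁ := S.image fun e : ℕ => (e : ℤ) - c) Finset.subset_union_right
    fun n _ hn => ?_]
  · rw [Finset.sum_image (fun a _ b _ h => by simpa using h)]
    conv_rhs => rw [← DirectSum.sum_support_decompose ℳ z]
    refine Finset.sum_congr rfl fun e _ => ?_
    rw [show c + ((e : ℤ) - c) = (e : ℤ) by ring, part_natCast]
  · by_contra h
    by_cases he : 0 ≤ c + n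
    · rw [part_nonneg he] at h
      refine hn (Finset.mem_image.2 ⟨(c + n).toNat, DFinsupp.mem_support_iff.2 fun h0 => h ?_, by omega⟩)
      rw [h0]
      exact ZeroMemClass.coe_zero _
    · exact h (part_neg he z)

/-- Only finitely many shifts give non-zero components. -/
theorem exists_finset (z : M) (c : ℤ) : ∃ T : Finset ℤ, ∀ n : ℤ, part ℳ (c + n) z ≠ 0 → n ∈ T := by
  classical
  refine ⟨(DirectSum.decompose ℳ z).support.image fun e : ℕ => (e : ℤ) - c, fun n h => ?_⟩
  by_cases he : 0 ≤ c + n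
  · rw [part_nonneg he] at h
    refine Finset.mem_image.2 ⟨(c + n).toNat, DFinsupp.mem_support_iff.2 fun h0 => h ?_, by omega⟩
    rw [h0]
    exact ZeroMemClass.coe_zero _
  · exact (h (part_neg he z)).elim

end Groth.L04.ProjLC
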