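import Groth.Agent.L04.HomAlg.AbElt
import Mathlib.Algebra.DirectSum.Basic

/-!
# Homology of a complex which is degreewise a direct sum of complexes
-/

set_option autoImplicit false
universe u w v

open CategoryTheory CategoryTheory.Limits

noncomputable section

namespace Groth.L04.ProjLC

open Groth.L04.AbElt

variable {ι : Type w} {c : ComplexShape ι} {κ : Type v} [DecidableEq κ]
  {K : κ → HomologicalComplex AddCommGrpCat.{u} c} {L : HomologicalComplex AddCommGrpCat.{u} c}
  (φ : ∀ n, K n ⟶ L)

/-- The map from the direct sum in degree `i`. -/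
def sumMap (i : ι) : DirectSum κ (fun n => ((K n).X i : Type u)) →+ (L.X i : Type u) :=
  DirectSum.toAddMonoid fun n => ((φ n).f i).hom

theorem sumMap_of (i : ι) (n : κ) (x : (K n).X i) :
    sumMap φ i (DirectSum.of (fun n => ((K n).X i : Type u)) n x) = (φ n).f i x :=
  DirectSum.toAddMonoid_of _ _ _

/-- The differential on direct sums. -/
def sumD (i j : ι) : DirectSum κ (fun n => ((K n).X i : Type u)) →+ DirectSum κ (fun n => ((K n).X j : Type u)) :=
  DirectSum.toAddMonoid fun n => (DirectSum.of (fun n => ((K n).X j : Type u)) n).comp ((K n).d i j).hom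

theorem sumMap_sumD (i j : ι) (z : DirectSum κ (fun n => ((K n).X i : Type u))) :
    sumMap φ j (sumD i j z) = L.d i j (sumMap φ i z) := by
  induction z using DirectSum.induction_on with
  | zero => simp
  | of n x =>
    rw [sumMap_of, sumD, DirectSum.toAddMonoid_of, AddMonoidHom.comp_apply, sumMap_of]
    exact (f_d (φ n) i j x).symm
  | add y z hy hz => rw [map_add, map_add, map_add, map_add, hy, hz]

theorem sumD_apply (i j : ι) (z : DirectSum κ (fun n => ((K n).X i : Type u))) (n : κ) :
    sumD i j z n = (K n).d i j (z n) := by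
  induction z using DirectSum.induction_on with
  | zero => simp
  | of m x =>
    rw [sumD, DirectSum.toAddMonoid_of, AddMonoidHom.comp_apply]
    rcases eq_or_ne m n with rfl | h
    · rw [DirectSum.of_eq_same, DirectSum.of_eq_same]
    · rw [DirectSum.of_eq_of_ne _ _ _ h.symm, DirectSum.of_eq_of_ne _ _ _ h.symm, map_zero]
  | add y z hy hz => rw [map_add, DirectSum.add_apply, DirectSum.add_apply, map_add, hy, hz]

/-- The map on homology. -/
def homMap (i : ι) : DirectSum κ (fun n => ((K n).homology i : Type u)) →+ (L.homology i : Type u) :=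
  DirectSum.toAddMonoid fun n => (HomologicalComplex.homologyMap (φ n) i).hom

theorem nonempty_homology_equiv (hb : ∀ i, Function.Bijective (sumMap φ i)) {i j k : ι}
    (hi : c.prev j = i) (hk : c.next j = k) :
    Nonempty (DirectSum κ (fun n => ((K n).homology j : Type u)) ≃+ (L.homology j : Type u)) := by
  classical
  refine ⟨AddEquiv.ofBijective (homMap φ j) ⟨(injective_iff_map_eq_zero _).2 fun h hh => ?_, fun y => ?_⟩⟩
  · choose z hz using fun n => homologyπ_surjective (K n) j (h n)
    let S := h.support
    have hh' : L.homologyπ j (∑ n ∈ S, HomologicalComplex.cyclesMap (φ n) j (z n)) = 0 := by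
      rw [map_sum, ← hh]
      conv_rhs => rw [← DirectSum.sum_support_of h, map_sum]
      refine Finset.sum_congr rfl fun n _ => ?_
      rw [homMap, DirectSum.toAddMonoid_of, ← hz n]
      exact (homologyMap_π (φ n) j (z n)).symm
    obtain ⟨y, hy⟩ := (π_eq_zero_iff hi _).1 hh'
    obtain ⟨w, rfl⟩ := (hb i).2 y
    have he : sumD i j w = ∑ n ∈ S, DirectSum.of (fun n => ((K n).X j : Type u)) n ((K n).iCycles j (z n)) := by
      refine (hb j).1 ?_
      rw [sumMap_sumD, hy, map_sum, map_sum]
      exact Finset.sum_congr rfl fun n _ => (iCycles_cyclesMap (φ n) j (z n)).trans (sumMap_of φ j n _).symm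
    refine DFinsupp.ext fun n => ?_
    show h n = 0
    by_cases hn : n ∈ S
    · rw [← hz n, π_eq_zero_iff hi]
      refine ⟨w n, ?_⟩
      rw [← sumD_apply, he, DFinsupp.finsetSum_apply, Finset.sum_eq_single n
        (fun m _ hm => DirectSum.of_eq_of_ne _ _ _ hm.symm) (fun h => (h hn).elim), DirectSum.of_eq_same]
    · exact DFinsupp.notMem_support_iff.1 hn
  · obtain ⟨z, rfl⟩ := homologyπ_surjective L j y
    obtain ⟨x, hx⟩ := (hb j).2 (L.iCycles j z)
    have hd : sumD j k x = 0 := (hb k).1 (by rw [sumMap_sumD, hx, d_iCycles, map_zero])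
    choose w hw using fun n => exists_cycle (K := K n) hk (x n) (by rw [← sumD_apply, hd]; rfl)
    refine ⟨∑ n ∈ x.support, DirectSum.of (fun n => ((K n).homology j : Type u)) n ((K n).homologyπ j (w n)), ?_⟩
    rw [map_sum]
    refine (Finset.sum_congr rfl fun n _ => ?_).trans ((map_sum (L.homologyπ j).hom (fun n => HomologicalComplex.cyclesMap (φ n) j (w n)) x.support).symm.trans ?_)
    · rw [homMap, DirectSum.toAddMonoid_of]
      exact homologyMap_π (φ n) j (w n)
    refine congrArg _ (iCycles_injective L j ?_)
    rw [← hx, map_sum]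
    conv_rhs => rw [← DirectSum.sum_support_of x, map_sum]
    refine Finset.sum_congr rfl fun n _ => ?_
    rw [iCycles_cyclesMap, sumMap_of, hw]

end Groth.L04.ProjLC
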